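import Mathlib.RingTheory.MvPolynomial.Homogeneous
import Mathlib.LinearAlgebra.Matrix.GeneralLinearGroup.Defs
import Mathlib.LinearAlgebra.Matrix.Determinant.Basic
import Mathlib.Tactic

set_option autoImplicit false
universe u

namespace Groth.Agent.PlaneDetLib

open MvPolynomial

variable {k : Type u} [Field k] {n : ℕ}

/-- killing a nonzero linear form -/
theorem exists_kill (a : MvPolynomial (Fin n) k) (ha : a.IsHomogeneous 1) (ha0 : a ≠ 0) :
    ∃ φ : MvPolynomial (Fin n) k →ₐ[k] MvPolynomial (Fin n) k, φ a = 0 ∧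
      ∀ v : MvPolynomial (Fin n) k, v.IsHomogeneous 1 →
        (φ v).IsHomogeneous 1 ∧ (φ v = 0 → ∃ c : k, v = C c * a) := by
  classical
  have hsum : ∀ v : MvPolynomial (Fin n) k, v.IsHomogeneous 1 → ∃ f : Fin n → k, v = ∑ j, C (f j) * X j := by
    intro v hv
    have : v ∈ Submodule.span k (Set.range (X : Fin n → MvPolynomial (Fin n) k)) := by
      rw [← homogeneousSubmodule_one_eq_span_X]; exact hv
    obtain ⟨f, hf⟩ := (Submodule.mem_span_range_iff_exists_fun k).1 this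
    exact ⟨f, by rw [← hf]; simp [smul_eq_C_mul]⟩
  obtain ⟨f, hf⟩ := hsum a ha
  obtain ⟨i, hi⟩ : ∃ i, f i ≠ 0 := by
    by_contra h
    simp only [not_exists, not_not] at h
    exact ha0 (by rw [hf]; simp [h])
  let φ : MvPolynomial (Fin n) k →ₐ[k] MvPolynomial (Fin n) k :=
    aeval (fun j => if j = i then X i - C (f i)⁻¹ * a else X j)
  have key : ∀ g : Fin n → k, φ (∑ j, C (g j) * X j) =
      (∑ j, C (g j) * X j) - C (g i * (f i)⁻¹) * a := by
    intro g
    rw [map_sum]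
    have : ∀ j, φ (C (g j) * X j) =
        C (g j) * X j - (if j = i then C (g i * (f i)⁻¹) * a else 0) := by
      intro j
      rw [map_mul]
      by_cases h : j = i
      · subst h
        simp [φ, map_mul]
        ring
      · simp [φ, h]
    simp only [this]
    rw [Finset.sum_sub_distrib, Finset.sum_ite_eq' Finset.univ i]
    simp
  refine ⟨φ, ?_, ?_⟩
  · have := key f
    rw [← hf, mul_inv_cancel₀ hi, map_one, one_mul, sub_self] at this
    exact this
  · intro v hv
    obtain ⟨g, hg⟩ := hsum v hv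
    have := key g
    rw [← hg] at this
    refine ⟨?_, fun h0 => ⟨g i * (f i)⁻¹, ?_⟩⟩
    · rw [this]
      exact hv.sub (by simpa using (isHomogeneous_C (Fin n) (g i * (f i)⁻¹)).mul ha)
    · exact sub_eq_zero.1 (this.symm.trans h0)

/-- a singular 2×2 matrix of linear forms has proportional rows or proportional columns -/
theorem relation (a b c d : MvPolynomial (Fin n) k) (ha : a.IsHomogeneous 1) (hb : b.IsHomogeneous 1)
    (hc : c.IsHomogeneous 1) (hdet : a * d - b * c = 0) :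
    ∃ s t : k, (s ≠ 0 ∨ t ≠ 0) ∧
      ((C s * a + C t * c = 0 ∧ C s * b + C t * d = 0) ∨
       (C s * a + C t * b = 0 ∧ C s * c + C t * d = 0)) := by
  by_cases ha0 : a = 0
  · subst ha0
    rcases mul_eq_zero.1 (show b * c = 0 by linear_combination -hdet) with h | h
    · exact ⟨1, 0, .inl one_ne_zero, .inl (by simp [h])⟩
    · exact ⟨1, 0, .inl one_ne_zero, .inr (by simp [h])⟩
  obtain ⟨φ, hφa, hφ⟩ := exists_kill a ha ha0
  have h0 : φ b * φ c = 0 := by
    have := congrArg φ hdet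
    simp only [map_sub, map_mul, hφa, zero_mul, map_zero, zero_sub, neg_eq_zero] at this
    exact this
  rcases mul_eq_zero.1 h0 with h | h
  · obtain ⟨l, hl⟩ := (hφ b hb).2 h
    refine ⟨l, -1, .inr (by simp), .inr ⟨?_, ?_⟩⟩
    · rw [hl]; simp
    · have : a * (d - C l * c) = 0 := by rw [hl] at hdet; linear_combination hdet
      rcases mul_eq_zero.1 this with h | h
      · exact absurd h ha0
      · simp only [map_neg, map_one]; linear_combination -h
  · obtain ⟨l, hl⟩ := (hφ c hc).2 h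
    refine ⟨l, -1, .inr (by simp), .inl ⟨?_, ?_⟩⟩
    · rw [hl]; simp
    · have : a * (d - C l * b) = 0 := by rw [hl] at hdet; linear_combination hdet
      rcases mul_eq_zero.1 this with h | h
      · exact absurd h ha0
      · simp only [map_neg, map_one]; linear_combination -h

theorem exists_GL (s t : k) (h : s ≠ 0 ∨ t ≠ 0) :
    ∃ g : GL (Fin 2) k, g.val 0 0 = s ∧ g.val 0 1 = t := by
  by_cases hs : s = 0
  · have ht : t ≠ 0 := h.resolve_left (not_not.2 hs)
    have hd : IsUnit (!![s, t; 1, 0] : Matrix (Fin 2) (Fin 2) k).det := by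
      simp [Matrix.det_fin_two, ht]
    exact ⟨((Matrix.isUnit_iff_isUnit_det _).2 hd).unit, by simp, by simp⟩
  · have hd : IsUnit (!![s, t; 0, 1] : Matrix (Fin 2) (Fin 2) k).det := by
      simp [Matrix.det_fin_two, hs]
    exact ⟨((Matrix.isUnit_iff_isUnit_det _).2 hd).unit, by simp, by simp⟩

theorem exists_GL' (s t : k) (h : s ≠ 0 ∨ t ≠ 0) :
    ∃ g : GL (Fin 2) k, g.val 0 1 = s ∧ g.val 1 1 = t := by
  by_cases hs : s = 0
  · have ht : t ≠ 0 := h.resolve_left (not_not.2 hs)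
    have hd : IsUnit (!![1, s; 0, t] : Matrix (Fin 2) (Fin 2) k).det := by
      simp [Matrix.det_fin_two, ht]
    exact ⟨((Matrix.isUnit_iff_isUnit_det _).2 hd).unit, by simp, by simp⟩
  · have hd : IsUnit (!![0, s; 1, t] : Matrix (Fin 2) (Fin 2) k).det := by
      simp [Matrix.det_fin_two, hs]
    exact ⟨((Matrix.isUnit_iff_isUnit_det _).2 hd).unit, by simp, by simp⟩

theorem kill_pair (α β : k) (l : MvPolynomial (Fin n) k) :
    ∃ s t : k, (s ≠ 0 ∨ t ≠ 0) ∧ C s * (C α * l) + C t * (C β * l) = 0 := by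
  by_cases h : α = 0 ∧ β = 0
  · exact ⟨1, 0, .inl one_ne_zero, by simp [h.1, h.2]⟩
  · refine ⟨β, -α, ?_, by simp only [map_neg]; ring⟩
    rcases not_and_or.1 h with h | h
    · exact .inr (neg_ne_zero.2 h)
    · exact .inl h

theorem main (M : Matrix (Fin 2) (Fin 2) (MvPolynomial (Fin n) k))
    (hM : ∀ a b : Fin 2, (M a b).IsHomogeneous 1) :
    (∃ l₁ l₂ : MvPolynomial (Fin n) k, l₁.IsHomogeneous 1 ∧ l₂.IsHomogeneous 1 ∧ M.det = l₁ * l₂) ↔
    ∃ g h : GL (Fin 2) k,
      ((MvPolynomial.C : k →+* MvPolynomial (Fin n) k).mapMatrix g.val * M *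
        (MvPolynomial.C : k →+* MvPolynomial (Fin n) k).mapMatrix h.val) 0 1 = 0 := by
  classical
  constructor
  · rintro ⟨l₁, l₂, h1, -, hdet⟩
    rw [Matrix.det_fin_two] at hdet
    obtain ⟨s, t, hst, α, β, hrel⟩ : ∃ s t : k, (s ≠ 0 ∨ t ≠ 0) ∧ ∃ α β : k,
        ((C s * M 0 0 + C t * M 1 0 = C α * l₁ ∧ C s * M 0 1 + C t * M 1 1 = C β * l₁) ∨
         (C s * M 0 0 + C t * M 0 1 = C α * l₁ ∧ C s * M 1 0 + C t * M 1 1 = C β * l₁)) := by
      by_cases hl : l₁ = 0
      · obtain ⟨s, t, hst, h⟩ := relation (M 0 0) (M 0 1) (M 1 0) (M 1 1) (hM 0 0) (hM 0 1) (hM 1 0)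
          (by rw [hdet, hl, zero_mul])
        exact ⟨s, t, hst, 0, 0, by simpa [hl] using h⟩
      obtain ⟨φ, hφl, hφ⟩ := exists_kill l₁ h1 hl
      obtain ⟨s, t, hst, h⟩ := relation (φ (M 0 0)) (φ (M 0 1)) (φ (M 1 0)) (φ (M 1 1))
        (hφ _ (hM 0 0)).1 (hφ _ (hM 0 1)).1 (hφ _ (hM 1 0)).1
        (by rw [← map_mul, ← map_mul, ← map_sub, hdet, map_mul, hφl, zero_mul])
      have hh : ∀ v w : MvPolynomial (Fin n) k, v.IsHomogeneous 1 → w.IsHomogeneous 1 →
          C s * φ v + C t * φ w = 0 → ∃ e : k, C s * v + C t * w = C e * l₁ := by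
        intro v w hv hw h0
        refine (hφ _ ?_).2 ?_
        · exact (by simpa using (isHomogeneous_C (Fin n) s).mul hv : (C s * v).IsHomogeneous 1).add
            (by simpa using (isHomogeneous_C (Fin n) t).mul hw)
        · rw [map_add, map_mul, map_mul]
          simpa using h0
      rcases h with ⟨ha, hb⟩ | ⟨ha, hb⟩
      · obtain ⟨α, hα⟩ := hh _ _ (hM 0 0) (hM 1 0) ha
        obtain ⟨β, hβ⟩ := hh _ _ (hM 0 1) (hM 1 1) hb
        exact ⟨s, t, hst, α, β, .inl ⟨hα, hβ⟩⟩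
      · obtain ⟨α, hα⟩ := hh _ _ (hM 0 0) (hM 0 1) ha
        obtain ⟨β, hβ⟩ := hh _ _ (hM 1 0) (hM 1 1) hb
        exact ⟨s, t, hst, α, β, .inr ⟨hα, hβ⟩⟩
    obtain ⟨p, q, hpq, hker⟩ := kill_pair α β l₁
    rcases hrel with ⟨h0, h1'⟩ | ⟨h0, h1'⟩
    · obtain ⟨g, hg0, hg1⟩ := exists_GL s t hst
      obtain ⟨h, hh0, hh1⟩ := exists_GL' p q hpq
      refine ⟨g, h, ?_⟩
      simp only [Matrix.mul_apply, Fin.sum_univ_two, RingHom.mapMatrix_apply, Matrix.map_apply, hg0, hg1, hh0, hh1]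
      rw [h0, h1']
      linear_combination hker
    · obtain ⟨h, hh0, hh1⟩ := exists_GL' s t hst
      obtain ⟨g, hg0, hg1⟩ := exists_GL p q hpq
      refine ⟨g, h, ?_⟩
      simp only [Matrix.mul_apply, Fin.sum_univ_two, RingHom.mapMatrix_apply, Matrix.map_apply, hg0, hg1, hh0, hh1]
      linear_combination hker + C p * h0 + C q * h1'
  · rintro ⟨g, h, h0⟩
    set N := (MvPolynomial.C : k →+* MvPolynomial (Fin n) k).mapMatrix g.val * M *
        (MvPolynomial.C : k →+* MvPolynomial (Fin n) k).mapMatrix h.val with hN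
    have hN1 : ∀ a b, (N a b).IsHomogeneous 1 := by
      intro a b
      rw [hN, Matrix.mul_apply]
      refine IsHomogeneous.sum _ _ _ (fun x _ => ?_)
      rw [Matrix.mul_apply, Finset.sum_mul]
      refine IsHomogeneous.sum _ _ _ (fun y _ => ?_)
      simpa using ((isHomogeneous_C (Fin n) (g.val a y)).mul (hM y x)).mul (isHomogeneous_C (Fin n) (h.val x b))
    have hu : (g.val.det * h.val.det) ≠ 0 :=
      mul_ne_zero ((Matrix.isUnit_iff_isUnit_det _).1 g.isUnit).ne_zero
        ((Matrix.isUnit_iff_isUnit_det _).1 h.isUnit).ne_zero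
    have hh1 : (C (g.val.det * h.val.det)⁻¹ * N 0 0).IsHomogeneous 1 := by
      simpa only [zero_add] using (isHomogeneous_C (Fin n) (g.val.det * h.val.det)⁻¹).mul (hN1 0 0)
    refine ⟨C (g.val.det * h.val.det)⁻¹ * N 0 0, N 1 1, hh1, hN1 1 1, ?_⟩
    have hd : N.det = C (g.val.det * h.val.det) * M.det := by
      rw [hN, Matrix.det_mul, Matrix.det_mul, ← RingHom.map_det, ← RingHom.map_det, map_mul]
      ring
    rw [Matrix.det_fin_two N, h0, zero_mul, sub_zero] at hd
    calc M.det = C (g.val.det * h.val.det)⁻¹ * (C (g.val.det * h.val.det) * M.det) := by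
          rw [← mul_assoc, ← map_mul, inv_mul_cancel₀ hu, map_one, one_mul]
      _ = _ := by rw [← hd, mul_assoc]

end Groth.Agent.PlaneDetLib
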